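import Mathlib
import Groth.Agent.Lib.Helper36.CompletionHomology
import Groth.Agent.Lib.Helper36.DerivedCompletionFormal2
import Groth.Agent.Lib.Helper12.DRingPCShift

/-!
# Approximation by derived complete objects (helper36)

Namespace `Groth.Agent.Lib.Helper36.TCo`.
-/

set_option autoImplicit false
set_option maxHeartbeats 400000
universe u
open CategoryTheory CategoryTheory.Limits CategoryTheory.Pretriangulated DerivedCategory
open scoped ZeroObject
attribute [local instance] HasDerivedCategory.standard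

namespace Groth.Agent.Lib.Helper36.TCo

open Groth.Agent.Lib.Helper12 Groth.Agent.Lib.Helper36.DC Groth.Agent.Lib.Helper36.DCF

variable {A : Type u} [CommRing A] (I : Ideal A)

/-- `X` receives a map from a derived complete object whose cone lives in degrees `< n` -/
def Approx (n : ℤ) (X : Dual.D A) : Prop :=
  ∃ (Y Z : Dual.D A) (φ : Y ⟶ X) (β : X ⟶ Z) (γ : Z ⟶ Y⟦(1 : ℤ)⟧),
    Triangle.mk φ β γ ∈ distTriang (Dual.D A) ∧ DRing.IsDerivedComplete I Y ∧
      ∀ i : ℤ, n ≤ i → IsZero ((HF A i).obj Z)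

lemma isDerivedComplete_zero : DRing.IsDerivedComplete I (0 : Dual.D A) := by
  intro f hf n
  refine ⟨fun a b => ?_⟩
  have h : IsZero ((0 : Dual.D A)⟦n⟧) := (CategoryTheory.shiftFunctor (Dual.D A) n).map_isZero
    (isZero_zero _)
  exact h.eq_of_tgt _ _

lemma approx_of_le (b : ℤ) (X : Dual.D A) (hX : ∀ i : ℤ, b < i → IsZero ((HF A i).obj X)) :
    Approx I (b + 1) X :=
  ⟨0, X, 0, 𝟙 X, 0, contractible_distinguished₁ X, isDerivedComplete_zero I,
    fun i hi => hX i (by omega)⟩

lemma approx_step (n : ℤ) {X' Y' X : Dual.D A} (u : X' ⟶ Y') (v : Y' ⟶ X)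
    (w : X ⟶ X'⟦(1 : ℤ)⟧) (hT : Triangle.mk u v w ∈ distTriang (Dual.D A))
    (hY' : DRing.IsDerivedComplete I Y') (h : Approx I (n + 1) X') : Approx I n X := by
  obtain ⟨Y'', Z'', φ, β, γ, hφ, hY'', hZ''⟩ := h
  obtain ⟨X'', β₁₃, γ₁₃, h₁₃⟩ := distinguished_cocone_triangle (φ ≫ u)
  have oct := Triangulated.someOctahedron rfl hφ hT h₁₃
  have hrot := rot_of_distTriang _ oct.mem
  refine ⟨X'', Z''⟦(1 : ℤ)⟧, oct.m₃, _, _, hrot, ?_, ?_⟩
  · exact isDerivedComplete_of_distTriang₃ I _ h₁₃ hY'' hY'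
  · intro i hi
    exact (hZ'' (1 + i) (by omega)).of_iso ((HFShiftIso (A := A) 1 i (1 + i) rfl).app Z'')

lemma seqComplete_of_approx (n : ℤ) (X : Dual.D A) (h : Approx I n X) (f : A) (hf : f ∈ I)
    (i : ℤ) (hi : n < i) : SeqComplete f (Dual.HD A X i) := by
  obtain ⟨Y, Z, φ, β, γ, hT, hY, hZ⟩ := h
  have hiso : IsIso ((HF A i).map φ) := isIso_HF_mor₁ (Triangle.mk φ β γ) hT i
    (ModuleCat.subsingleton_of_isZero (hZ (i - 1) (by omega)))
    (ModuleCat.subsingleton_of_isZero (hZ i (by omega)))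
  have h1 := (isDerivedComplete_iff_HD I Y).mp hY f hf i
  exact h1.of_linearEquiv (asIso ((HF A i).map φ)).toLinearEquiv

/-- an object approximable in all degrees is derived complete -/
lemma isDerivedComplete_of_approx (X : Dual.D A) (h : ∀ n : ℤ, Approx I n X) :
    DRing.IsDerivedComplete I X := by
  rw [isDerivedComplete_iff_HD]
  intro f hf i
  exact seqComplete_of_approx I (i - 1) X (h (i - 1)) f hf i (by omega)

end Groth.Agent.Lib.Helper36.TCo
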