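import Mathlib
import Groth.Agent.Lib.Helper36.TensorCompletion.Approx
import Groth.Agent.Lib.Helper36.Nakayama.Devissage

/-!
# Tensoring a bounded above derived complete complex with a finite module (helper36)

Namespace `Groth.Agent.Lib.Helper36.TCo`.
-/

set_option autoImplicit false
set_option maxHeartbeats 400000
universe u
open CategoryTheory CategoryTheory.Limits CategoryTheory.Pretriangulated DerivedCategory
  CochainComplex MonoidalCategory
open scoped ZeroObject
attribute [local instance] HasDerivedCategory.standard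

namespace Groth.Agent.Lib.Helper36.TCo

open Groth.Agent.Lib.Helper12 Groth.Agent.Lib.Helper36.DC Groth.Agent.Lib.Helper36.DCF
  Groth.Agent.Lib.Helper36.DNak Groth.Agent.Lib.Helper36.LT

variable {A : Type u} [CommRing A] (I : Ideal A)

lemma isDerivedComplete_of_iso {X Y : Dual.D A} (e : X ≅ Y) (hX : DRing.IsDerivedComplete I X) :
    DRing.IsDerivedComplete I Y := by
  intro f hf n
  have := hX f hf n
  refine ⟨fun a b => ?_⟩
  have h := Subsingleton.elim (a ≫ (CategoryTheory.shiftFunctor (Dual.D A) n).map e.inv)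
    (b ≫ (CategoryTheory.shiftFunctor (Dual.D A) n).map e.inv)
  exact (cancel_mono _).1 h

lemma isDerivedComplete_of_isZero {X : Dual.D A} (hX : IsZero X) :
    DRing.IsDerivedComplete I X := by
  intro f hf n
  refine ⟨fun a b => ?_⟩
  have h : IsZero (X⟦n⟧) := (CategoryTheory.shiftFunctor (Dual.D A) n).map_isZero hX
  exact h.eq_of_tgt _ _

/-- the middle vertex of a distinguished triangle with complete outer vertices is complete -/
lemma isDerivedComplete_obj₂ (T : Triangle (Dual.D A)) (hT : T ∈ distTriang (Dual.D A))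
    (h1 : DRing.IsDerivedComplete I T.obj₁) (h3 : DRing.IsDerivedComplete I T.obj₃) :
    DRing.IsDerivedComplete I T.obj₂ :=
  isDerivedComplete_of_distTriang₃ I _ (inv_rot_of_distTriang _ hT)
    (isDerivedComplete_shift I _ h3 (-1)) h1

section

variable (P : DRing.Cx A) (hP : ∀ n, Module.Flat A (P.X n))

/-- the distinguished triangle attached to a short exact sequence of modules -/
lemma distTriang_tmap {M₁ M₂ M₃ : ModuleCat.{u} A} (i : M₁ ⟶ M₂) (p : M₂ ⟶ M₃) (w : i ≫ p = 0)
    (hS : (ShortComplex.mk i p w).ShortExact) (hP : ∀ n, Module.Flat A (P.X n)) :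
    ∃ δ : (Q.obj ((G M₃).obj P) : Dual.D A) ⟶ (Q.obj ((G M₁).obj P))⟦(1 : ℤ)⟧,
      Triangle.mk (Q.map (tmap P i)) (Q.map (tmap P p)) δ ∈ distTriang (Dual.D A) :=
  ⟨_, DerivedCategory.triangleOfSES_distinguished (shortExact_tmap P hP (ShortComplex.mk i p w) hS)⟩

end

/-- the split short exact sequence `0 → A → A^{r+1} → A^r → 0` -/
lemma shortExact_fin (r : ℕ) :
    ∃ (i : ModuleCat.of A A ⟶ ModuleCat.of A (Fin (r + 1) → A))
      (p : ModuleCat.of A (Fin (r + 1) → A) ⟶ ModuleCat.of A (Fin r → A)) (w : i ≫ p = 0),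
      (ShortComplex.mk i p w).ShortExact := by
  let ι : A →ₗ[A] (Fin (r + 1) → A) := LinearMap.single A (fun _ : Fin (r + 1) => A) 0
  let τ : (Fin (r + 1) → A) →ₗ[A] (Fin r → A) := LinearMap.funLeft A A Fin.succ
  have hι0 : ∀ a : A, ι a 0 = a := by
    intro a
    show (Pi.single (0 : Fin (r + 1)) a : Fin (r + 1) → A) 0 = a
    rw [Pi.single_apply, if_pos rfl]
  have hιs : ∀ (a : A) (j : Fin r), ι a (Fin.succ j) = 0 := by
    intro a j
    show (Pi.single (0 : Fin (r + 1)) a : Fin (r + 1) → A) (Fin.succ j) = 0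
    rw [Pi.single_apply, if_neg (Fin.succ_ne_zero j)]
  have hιτ : ∀ a : A, τ (ι a) = 0 := by
    intro a
    funext j
    exact hιs a j
  refine ⟨ModuleCat.ofHom ι, ModuleCat.ofHom τ, ?_, ?_⟩
  · apply ModuleCat.hom_ext
    apply LinearMap.ext
    intro a
    exact hιτ a
  · refine ModuleCat.shortComplex_shortExact _ ?_ ?_ ?_
    · intro v
      constructor
      · intro hv
        refine ⟨v 0, ?_⟩
        funext j
        refine Fin.cases ?_ (fun j' => ?_) j
        · exact hι0 (v 0)
        · have h1 : v (Fin.succ j') = 0 := congrFun hv j'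
          have h2 : ι (v 0) (Fin.succ j') = 0 := hιs (v 0) j'
          exact h2.trans h1.symm
      · rintro ⟨a, rfl⟩
        exact hιτ a
    · intro a a' h
      have h1 := congrFun h 0
      have e1 : ι a 0 = a := hι0 a
      have e2 : ι a' 0 = a' := hι0 a'
      exact e1.symm.trans (h1.trans e2)
    · intro w
      refine ⟨Fin.cons 0 w, ?_⟩
      funext j
      show (Fin.cons (0 : A) w : Fin (r + 1) → A) (Fin.succ j) = w j
      exact Fin.cons_succ _ _ _

section free

variable (P : DRing.Cx A) (hP : ∀ n, Module.Flat A (P.X n))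
  (hc : DRing.IsDerivedComplete I (Q.obj P : Dual.D A))
include hP hc

/-- `P ⊗ A^r` is derived complete -/
lemma isDerivedComplete_G_fin (r : ℕ) :
    DRing.IsDerivedComplete I (Q.obj ((G (ModuleCat.of A (Fin r → A))).obj P) : Dual.D A) := by
  induction r with
  | zero =>
    apply isDerivedComplete_of_isZero
    apply isZero_toD_of_forall_isZero
    intro n
    have h0 : IsZero (ModuleCat.of A (Fin 0 → A)) := ModuleCat.isZero_of_subsingleton _
    exact (tensorLeft (P.X n)).map_isZero h0
  | succ r ih =>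
    obtain ⟨i, p, w, hS⟩ := shortExact_fin (A := A) r
    obtain ⟨δ, hT⟩ := distTriang_tmap P i p w hS hP
    have h1 : DRing.IsDerivedComplete I (Q.obj ((G (ModuleCat.of A A)).obj P) : Dual.D A) :=
      isDerivedComplete_of_iso I (Q.mapIso (tensorCxUnitIso P)).symm hc
    exact isDerivedComplete_obj₂ I _ hT h1 ih

end free

section main

variable [IsNoetherianRing A] (P : DRing.Cx A) (hP : ∀ n, Module.Flat A (P.X n)) (b : ℤ)
  (hb : ∀ i : ℤ, b < i → IsZero (P.X i))
  (hc : DRing.IsDerivedComplete I (Q.obj P : Dual.D A))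
include hP hb hc

omit [IsNoetherianRing A] hP hc in
lemma isZero_HF_G (M : ModuleCat.{u} A) (i : ℤ) (hi : b < i) :
    IsZero ((HF A i).obj (Q.obj ((G M).obj P) : Dual.D A)) :=
  isZero_HF_toD_of_isZero_X _ i ((tensorRight M).map_isZero (hb i hi))

lemma approx_G : ∀ (k : ℕ) (M : ModuleCat.{u} A), Module.Finite A M →
    Approx I (b + 1 - k) (Q.obj ((G M).obj P) : Dual.D A) := by
  intro k
  induction k with
  | zero =>
    intro M _
    have h := approx_of_le I b _ (isZero_HF_G P b hb M)
    simpa using h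
  | succ k ih =>
    intro M hM
    obtain ⟨r, s, hs⟩ := Module.Finite.exists_fin (R := A) (M := M)
    let π : (Fin r → A) →ₗ[A] M := Fintype.linearCombination A s
    have hπ : Function.Surjective π :=
      (span_range_eq_top_iff_surjective_fintypeLinearCombination A s).1 hs
    have hK : Module.Finite A (LinearMap.ker π) := inferInstance
    have hS := LinearMap.shortExact_shortComplexKer hπ
    obtain ⟨δ, hT⟩ := distTriang_tmap P _ _ _ hS hP
    have hA := ih (ModuleCat.of A (LinearMap.ker π)) hK
    have hA' : Approx I (b + 1 - ((k + 1 : ℕ) : ℤ) + 1)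
        (Q.obj ((G (ModuleCat.of A (LinearMap.ker π))).obj P) : Dual.D A) := by
      have e : b + 1 - ((k + 1 : ℕ) : ℤ) + 1 = b + 1 - (k : ℤ) := by
        push_cast
        ring
      rw [e]
      exact hA
    exact approx_step I (b + 1 - ((k + 1 : ℕ) : ℤ)) _ _ δ hT
      (isDerivedComplete_G_fin I P hP hc r) hA'

/-- **Main theorem**: `P ⊗ M` is derived complete for a finite module `M` over a Noetherian
ring, when `P` is a bounded above termwise flat derived complete complex. -/
theorem isDerivedComplete_G (M : ModuleCat.{u} A) [Module.Finite A M] :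
    DRing.IsDerivedComplete I (Q.obj ((G M).obj P) : Dual.D A) := by
  apply isDerivedComplete_of_approx
  intro n
  obtain ⟨Y, Z, φ, β, γ, hT, hY, hZ⟩ :=
    approx_G I P hP b hb hc (b + 1 - n).toNat M inferInstance
  refine ⟨Y, Z, φ, β, γ, hT, hY, fun i hi => hZ i ?_⟩
  have := Int.self_le_toNat (b + 1 - n)
  omega

end main

end Groth.Agent.Lib.Helper36.TCo
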