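import Mathlib
import Groth.Agent.Lib.Helper36.TensorCompletion.Module
import Groth.Agent.Lib.Helper36.LTensorCxWGood
import Groth.Agent.Lib.Helper36.LTensorCxBalance
import Groth.Agent.Lib.Helper36.DerivedComplete7
import Groth.Agent.Lib.Helper12.DRingSingle

/-!
# Tensoring a bounded above derived complete object with a bounded above complex of finite free
modules (helper36)

Namespace `Groth.Agent.Lib.Helper36.TCo`.
-/

set_option autoImplicit false
set_option maxHeartbeats 400000
universe u
open CategoryTheory CategoryTheory.Limits CategoryTheory.Pretriangulated DerivedCategory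
  CochainComplex MonoidalCategory
open scoped ZeroObject
attribute [local instance] HasDerivedCategory.standard

namespace Groth.Agent.Lib.Helper36.TCo

open Groth.Agent.Lib.Helper12 Groth.Agent.Lib.Helper36.DC Groth.Agent.Lib.Helper36.DCF
  Groth.Agent.Lib.Helper36.DNak Groth.Agent.Lib.Helper36.LT Groth.Agent.Lib.Helper36.FCo
  Groth.Agent.Lib.Helper36.LTCx

variable {A : Type u} [CommRing A] (I : Ideal A)

/-- tensoring a sequentially complete module with a finite free module -/
lemma seqComplete_tensor_finite_free {f : A} (M N : Type u) [AddCommGroup M] [Module A M]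
    [AddCommGroup N] [Module A N] [Module.Finite A M] [Module.Free A M]
    (h : SeqComplete f N) : SeqComplete f (TensorProduct A M N) := by
  let e₁ : M ≃ₗ[A] (Module.Free.ChooseBasisIndex A M → A) :=
    (Module.Free.chooseBasis A M).equivFun
  let e₂ : TensorProduct A M N ≃ₗ[A] TensorProduct A N M := TensorProduct.comm A M N
  let e₃ : TensorProduct A N M ≃ₗ[A]
      TensorProduct A N (Module.Free.ChooseBasisIndex A M → A) := e₁.lTensor N
  let e₄ := TensorProduct.piScalarRight A A N (Module.Free.ChooseBasisIndex A M)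
  exact (SeqComplete.pi (fun _ : Module.Free.ChooseBasisIndex A M => h)).of_linearEquiv
    (e₂.trans (e₃.trans e₄)).symm

/-- the first vertex of a distinguished triangle with complete other vertices is complete -/
lemma isDerivedComplete_obj₁ (T : Triangle (Dual.D A)) (hT : T ∈ distTriang (Dual.D A))
    (h2 : DRing.IsDerivedComplete I T.obj₂) (h3 : DRing.IsDerivedComplete I T.obj₃) :
    DRing.IsDerivedComplete I T.obj₁ := by
  have h := isDerivedComplete_of_distTriang₃ I _ (rot_of_distTriang _ hT) h2 h3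
  have h' := isDerivedComplete_shift I _ h (-1)
  exact isDerivedComplete_of_iso I
    ((shiftFunctorCompIsoId (Dual.D A) (1 : ℤ) (-1) (by omega)).app T.obj₁) h'

section wgood

variable {L : Dual.D A ⥤ Dual.D A} (hW : WGood L)
include hW

lemma wg_map_isZero {X : Dual.D A} (hX : IsZero X) : IsZero (L.obj X) := by
  rw [IsZero.iff_id_eq_zero, ← L.map_id]
  have h : 𝟙 X = (0 : A) • 𝟙 X := by
    rw [zero_smul]
    exact hX.eq_of_src _ _
  rw [h, hW.map_smul_id, zero_smul]

lemma wg_nonempty_shift_iso (X : Dual.D A) :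
    Nonempty (L.obj (X⟦(1 : ℤ)⟧) ≅ (L.obj X)⟦(1 : ℤ)⟧) := by
  obtain ⟨Z, β, γ, β', γ', hT, hT'⟩ := hW.exists_distTriang (0 : X ⟶ (0 : Dual.D A))
  have h1 : IsIso γ := (Triangle.isZero₂_iff_isIso₃ _ hT).1 (isZero_zero _)
  have h2 : IsIso γ' := (Triangle.isZero₂_iff_isIso₃ _ hT').1 (wg_map_isZero hW (isZero_zero _))
  exact ⟨L.mapIso (asIso γ).symm ≪≫ asIso γ'⟩

lemma wg_complete_shift_one (X : Dual.D A) (h : DRing.IsDerivedComplete I (L.obj X)) :
    DRing.IsDerivedComplete I (L.obj (X⟦(1 : ℤ)⟧)) := by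
  obtain ⟨e⟩ := wg_nonempty_shift_iso hW X
  exact isDerivedComplete_of_iso I e.symm (isDerivedComplete_shift I _ h 1)

lemma wg_complete_shift_neg_one (X : Dual.D A) (h : DRing.IsDerivedComplete I (L.obj X)) :
    DRing.IsDerivedComplete I (L.obj (X⟦(-1 : ℤ)⟧)) := by
  obtain ⟨e⟩ := wg_nonempty_shift_iso hW (X⟦(-1 : ℤ)⟧)
  have h1 : DRing.IsDerivedComplete I (L.obj ((X⟦(-1 : ℤ)⟧)⟦(1 : ℤ)⟧)) :=
    isDerivedComplete_of_iso I
      (L.mapIso ((shiftFunctorCompIsoId (Dual.D A) (-1 : ℤ) 1 (by omega)).app X).symm) h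
  have h2 : DRing.IsDerivedComplete I ((L.obj (X⟦(-1 : ℤ)⟧))⟦(1 : ℤ)⟧) :=
    isDerivedComplete_of_iso I e h1
  exact isDerivedComplete_of_iso I
    ((shiftFunctorCompIsoId (Dual.D A) (1 : ℤ) (-1) (by omega)).app _)
    (isDerivedComplete_shift I _ h2 (-1))

lemma wg_complete_shift (n : ℤ) (X : Dual.D A) (h : DRing.IsDerivedComplete I (L.obj X)) :
    DRing.IsDerivedComplete I (L.obj (X⟦n⟧)) := by
  induction n using Int.induction_on with
  | zero =>
    exact isDerivedComplete_of_iso I (L.mapIso ((shiftFunctorZero (Dual.D A) ℤ).app X).symm) h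
  | succ k ih =>
    have h1 := wg_complete_shift_one I hW _ ih
    exact isDerivedComplete_of_iso I
      (L.mapIso ((CategoryTheory.shiftFunctorAdd' (Dual.D A) (k : ℤ) 1 (k + 1) rfl).app X).symm) h1
  | pred k ih =>
    have h1 := wg_complete_shift_neg_one I hW _ ih
    exact isDerivedComplete_of_iso I
      (L.mapIso ((CategoryTheory.shiftFunctorAdd' (Dual.D A) (-(k : ℤ)) (-1) (-(k : ℤ) - 1) (by omega)).app
        X).symm) h1

end wgood

section

variable (F : DRing.Cx A) (c : ℤ) (hFc : DRing.VanishesAbove F c)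
  (hFf : DRing.TermwiseFiniteFree F) [DRing.HasLTensorCx A F]
include hFc hFf

/-- base case: a derived complete module in degree `0` -/
lemma isDerivedComplete_lTensorCx_inD (N : ModuleCat.{u} A)
    (hN : ∀ f ∈ I, SeqComplete f N) :
    DRing.IsDerivedComplete I ((DRing.LTensorCx A F).obj (Dual.inD A N)) := by
  have hKF : Groth.Agent.Lib.Helper94.KFlatRing.KF A F :=
    Groth.Agent.Lib.Helper94.KFlatBdd.kf_of_bounded_above A F c hFc (fun i => by
      have := (hFf i).2
      infer_instance)
  obtain ⟨e⟩ := nonempty_lTensorCx_single_iso F F hKF (Iso.refl _) N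
  have e0 : DRing.toD (TS.sM N) ≅ Dual.inD A N := toDSingleIso' 0 N
  have h1 : DRing.IsDerivedComplete I (DRing.toD (LT.tensorCx N F)) := by
    rw [isDerivedComplete_iff_HD]
    intro f hf i
    apply seqComplete_HD_toD
    intro j
    have := (hFf j).1
    have := (hFf j).2
    exact seqComplete_tensor_finite_free (F.X j) N (hN f hf)
  exact isDerivedComplete_of_iso I
    (e.symm ≪≫ (DRing.LTensorCx A F).mapIso e0) h1

/-- a derived complete module placed in any degree -/
lemma isDerivedComplete_lTensorCx_single (a : ℤ) (N : ModuleCat.{u} A)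
    (hN : ∀ f ∈ I, SeqComplete f N) :
    DRing.IsDerivedComplete I ((DRing.LTensorCx A F).obj
      ((DerivedCategory.singleFunctor (ModuleCat.{u} A) a).obj N)) := by
  have h0 := isDerivedComplete_lTensorCx_inD I F c hFc hFf N hN
  have h1 := wg_complete_shift I (wGood_lTensorCx F) (-a) _ h0
  exact isDerivedComplete_of_iso I ((DRing.LTensorCx A F).mapIso
    (((DerivedCategory.singleFunctors (ModuleCat.{u} A)).shiftIso (-a) a 0 (by omega)).app N)) h1

/-- an object concentrated in one degree -/
lemma isDerivedComplete_lTensorCx_of_concentrated (a : ℤ) (C : Dual.D A)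
    (hC : DRing.IsDerivedComplete I C)
    (h : ∀ j : ℤ, j ≠ a → Subsingleton (Dual.HD A C j)) :
    DRing.IsDerivedComplete I ((DRing.LTensorCx A F).obj C) := by
  obtain ⟨N, ⟨e⟩⟩ := exists_iso_single_of_subsingleton a C h
  have hN : ∀ f ∈ I, SeqComplete f N := by
    intro f hf
    have h1 := (isDerivedComplete_iff_HD I C).mp hC f hf a
    exact h1.of_linearEquiv (((HF A a).mapIso e) ≪≫ HFSingleIso a N).toLinearEquiv
  exact isDerivedComplete_of_iso I ((DRing.LTensorCx A F).mapIso e.symm)
    (isDerivedComplete_lTensorCx_single I F c hFc hFf a N hN)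

/-- bounded derived complete objects -/
lemma isDerivedComplete_lTensorCx_of_bounded : ∀ (d : ℕ) (a : ℤ) (C : Dual.D A),
    DRing.IsDerivedComplete I C →
    (∀ j : ℤ, j < a ∨ a + d < j → Subsingleton (Dual.HD A C j)) →
    DRing.IsDerivedComplete I ((DRing.LTensorCx A F).obj C) := by
  intro d
  induction d with
  | zero =>
    intro a C hC h
    refine isDerivedComplete_lTensorCx_of_concentrated I F c hFc hFf a C hC (fun j hj => h j ?_)
    rcases lt_or_gt_of_ne hj with h' | h'
    · exact Or.inl h'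
    · exact Or.inr (by simpa using h')
  | succ d ih =>
    intro a C hC h
    have hT := truncTriangle_distinguished C (a + 1)
    have h3c : DRing.IsDerivedComplete I (truncTriangle C (a + 1)).obj₃ :=
      isDerivedComplete_truncGE I C hC (a + 1)
    have h1c : DRing.IsDerivedComplete I (truncTriangle C (a + 1)).obj₁ :=
      isDerivedComplete_obj₁ I _ hT hC h3c
    obtain ⟨Z, β, γ, β', γ', hT₁, hT₂⟩ :=
      (wGood_lTensorCx F).exists_distTriang (truncTriangle C (a + 1)).mor₁
    let eT := isoTriangleOfIso₁₂ _ _ hT₁ hT (Iso.refl _) (Iso.refl _)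
      ((Category.comp_id _).trans (Category.id_comp _).symm)
    let eZ : Z ≅ (truncTriangle C (a + 1)).obj₃ := Triangle.π₃.mapIso eT
    have hL1 : DRing.IsDerivedComplete I
        ((DRing.LTensorCx A F).obj (truncTriangle C (a + 1)).obj₁) := by
      refine isDerivedComplete_lTensorCx_of_concentrated I F c hFc hFf a _ h1c (fun j hj => ?_)
      rcases lt_or_gt_of_ne hj with h' | h'
      · exact subsingleton_HD_truncLT_of C (a + 1) j (h j (Or.inl h'))
      · exact subsingleton_HD_truncLT C (a + 1) j (by omega)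
    have hL3 : DRing.IsDerivedComplete I
        ((DRing.LTensorCx A F).obj (truncTriangle C (a + 1)).obj₃) := by
      refine ih (a + 1) _ h3c (fun j hj => ?_)
      rcases hj with h' | h'
      · exact subsingleton_HD_truncGE C (a + 1) j h'
      · refine subsingleton_HD_truncGE_of C (a + 1) j (h j (Or.inr ?_))
        push_cast
        omega
    have hLZ : DRing.IsDerivedComplete I ((DRing.LTensorCx A F).obj Z) :=
      isDerivedComplete_of_iso I ((DRing.LTensorCx A F).mapIso eZ.symm) hL3
    exact isDerivedComplete_obj₂ I _ hT₂ hL1 hLZ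

omit hFf in
lemma isZero_tensor_X (P : DRing.Cx A) (b : ℤ) (hP : DRing.VanishesAbove P b) (i : ℤ)
    (hi : b + c < i) : IsZero ((P ⊗ F).X i) := by
  rw [IsZero.iff_id_eq_zero]
  apply HomologicalComplex.mapBifunctor.hom_ext
  intro p q hpq
  have hpq' : p + q = i := hpq
  have hz : IsZero (P.X p ⊗ F.X q) := by
    by_cases hp : b < p
    · exact (tensorRight (F.X q)).map_isZero (hP p hp)
    · exact (tensorLeft (P.X p)).map_isZero (hFc q (by omega))
  exact hz.eq_of_src _ _

omit hFf in
/-- right t-exactness -/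
lemma isZero_HF_lTensorCx_of_le (m : ℤ) (X : Dual.D A)
    (hX : ∀ i : ℤ, m < i → IsZero ((HF A i).obj X)) :
    ∀ i : ℤ, m + c < i → IsZero ((HF A i).obj ((DRing.LTensorCx A F).obj X)) := by
  intro i hi
  let X' := Q.objPreimage X
  let e : Q.obj X' ≅ X := Q.objObjPreimageIso X
  have hLE : X'.IsLE m := by
    rw [CochainComplex.isLE_iff]
    intro j hj
    apply exactAt_of_isZero_HF X' j
    exact (hX j hj).of_iso ((HF A j).mapIso e)
  have hqi : QuasiIso (X'.ιTruncLE m) := (X'.quasiIso_ιTruncLE_iff m).mpr hLE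
  have hiso : IsIso (Q.map (X'.ιTruncLE m)) :=
    (DerivedCategory.isIso_Q_map_iff_quasiIso _ (X'.ιTruncLE m)).mpr hqi
  obtain ⟨P, p, hp, hP, hproj, hvan⟩ := Groth.Agent.Lib.Helper36.KP.exists_resolution_above
    (X'.truncLE m) m (fun n hn => (X'.truncLE m).isZero_of_isStrictlyLE m n hn)
  have hiso' : IsIso (Q.map p) := (DerivedCategory.isIso_Q_map_iff_quasiIso _ p).mpr hp
  let eK : Q.obj P ≅ X := asIso (Q.map p) ≪≫ asIso (Q.map (X'.ιTruncLE m)) ≪≫ e
  have h1 : IsZero ((HF A i).obj (Q.obj (P ⊗ F) : Dual.D A)) :=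
    isZero_HF_toD_of_isZero_X _ i (isZero_tensor_X F c hFc P m hvan i hi)
  exact h1.of_iso ((HF A i).mapIso
    ((DRing.LTensorCx A F).mapIso eK.symm ≪≫ lTensorCxObjIso F P))

/-- **Main theorem**: `C ⊗^L F` is derived complete for a bounded above derived complete `C` and
a bounded above complex `F` of finite free modules. -/
theorem isDerivedComplete_lTensorCx (C : Dual.D A) (hC : DRing.IsDerivedComplete I C) (b : ℤ)
    (hb : ∀ i : ℤ, b < i → Subsingleton (Dual.HD A C i)) :
    DRing.IsDerivedComplete I ((DRing.LTensorCx A F).obj C) := by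
  rw [isDerivedComplete_iff_HD]
  intro f hf i
  have hT := truncTriangle_distinguished C (i - c - 1)
  obtain ⟨Z, β, γ, β', γ', hT₁, hT₂⟩ :=
    (wGood_lTensorCx F).exists_distTriang (truncTriangle C (i - c - 1)).mor₁
  let eT := isoTriangleOfIso₁₂ _ _ hT₁ hT (Iso.refl _) (Iso.refl _)
    ((Category.comp_id _).trans (Category.id_comp _).symm)
  let eZ : Z ≅ (truncTriangle C (i - c - 1)).obj₃ := Triangle.π₃.mapIso eT
  have h3c : DRing.IsDerivedComplete I (truncTriangle C (i - c - 1)).obj₃ :=
    isDerivedComplete_truncGE I C hC (i - c - 1)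
  have hL3 : DRing.IsDerivedComplete I
      ((DRing.LTensorCx A F).obj (truncTriangle C (i - c - 1)).obj₃) := by
    refine isDerivedComplete_lTensorCx_of_bounded I F c hFc hFf (b - (i - c - 1)).toNat
      (i - c - 1) _ h3c (fun j hj => ?_)
    rcases hj with h' | h'
    · exact subsingleton_HD_truncGE C (i - c - 1) j h'
    · refine subsingleton_HD_truncGE_of C (i - c - 1) j (hb j ?_)
      have := Int.self_le_toNat (b - (i - c - 1))
      omega
  have hLZ : DRing.IsDerivedComplete I ((DRing.LTensorCx A F).obj Z) :=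
    isDerivedComplete_of_iso I ((DRing.LTensorCx A F).mapIso eZ.symm) hL3
  have hv : ∀ j : ℤ, (i - c - 1 - 1) + c < j → IsZero ((HF A j).obj
      ((DRing.LTensorCx A F).obj (truncTriangle C (i - c - 1)).obj₁)) :=
    isZero_HF_lTensorCx_of_le F c hFc (i - c - 1 - 1) _
      (fun j hj => isZero_HF_truncLT C (i - c - 1) j (by omega))
  have hiso : IsIso ((HF A i).map β') := isIso_HF_mor₂ _ hT₂ i
    (ModuleCat.subsingleton_of_isZero (hv i (by omega)))
    (ModuleCat.subsingleton_of_isZero (hv (i + 1) (by omega)))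
  have h1 := (isDerivedComplete_iff_HD I _).mp hLZ f hf i
  exact h1.of_linearEquiv (asIso ((HF A i).map β')).symm.toLinearEquiv

end

end Groth.Agent.Lib.Helper36.TCo
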